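import Mathlib.RingTheory.Coalgebra.Basic
import Mathlib.RingTheory.Flat.Basic
import Mathlib.RingTheory.Noetherian.Basic
import Mathlib.LinearAlgebra.Dual.Lemmas
import Mathlib.LinearAlgebra.DirectSum.Finsupp
import Mathlib.RingTheory.Finiteness.Projective

/-!
# Finite projective left subcomodules of a projective coalgebra

If kernels of maps between finite free modules are projective, every finitely generated submodule of a projective
coalgebra lies in a left subcomodule which is finite projective: the double orthogonal of the left subcomodule it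
generates.
-/

universe u

open TensorProduct Coalgebra

namespace Groth.Agent.CoefLib

variable {R : Type u} [CommRing R] {C : Type u} [AddCommGroup C] [Module R C] [Coalgebra R C]

/-- The left translate by a functional. -/
noncomputable def translateL (a : Module.Dual R C) : C →ₗ[R] C :=
  (TensorProduct.lid R C).toLinearMap ∘ₗ a.rTensor C ∘ₗ comul

/-- Composition of left translates is a left translate. -/
theorem translateL_translateL (a b : Module.Dual R C) (x : C) :
    translateL a (translateL b x) =
      translateL (LinearMap.mul' R R ∘ₗ TensorProduct.map b a ∘ₗ comul) x := by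
  let c : Module.Dual R C := LinearMap.mul' R R ∘ₗ TensorProduct.map b a ∘ₗ comul
  let Φ : C ⊗[R] (C ⊗[R] C) →ₗ[R] C := (TensorProduct.lid R C).toLinearMap ∘ₗ b.rTensor C ∘ₗ
    ((TensorProduct.lid R C).toLinearMap ∘ₗ a.rTensor C).lTensor C
  have h1 : ∀ z, translateL a (TensorProduct.lid R C (b.rTensor C z)) = Φ ((comul (R := R) (A := C)).lTensor C z) := by
    intro z
    induction z using TensorProduct.induction_on with
    | zero => simp
    | add p q hp hq => simp only [map_add, hp, hq]
    | tmul p q => simp [Φ, translateL]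
  have h2 : ∀ z, TensorProduct.lid R C (c.rTensor C z) =
      Φ (TensorProduct.assoc R C C C ((comul (R := R) (A := C)).rTensor C z)) := by
    intro z
    induction z using TensorProduct.induction_on with
    | zero => simp
    | add p q hp hq => simp only [map_add, hp, hq]
    | tmul p q =>
      simp only [c, LinearMap.rTensor_tmul, TensorProduct.lid_tmul, LinearMap.comp_apply]
      induction (comul (R := R) p : C ⊗[R] C) using TensorProduct.induction_on with
      | zero => simp
      | add u v hu hv => simp only [map_add, add_tmul, add_smul, hu, hv]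
      | tmul u v => simp [Φ, mul_smul, smul_comm (b u) (a v)]
  show translateL a (TensorProduct.lid R C (b.rTensor C (comul x))) = TensorProduct.lid R C (c.rTensor C (comul x))
  rw [h1, h2, coassoc_apply]

/-- Finitely generated submodules of a projective coalgebra lie in finite projective left subcomodules, when
kernels of maps between finite free modules are projective. -/
theorem exists_left_subcomodule [IsNoetherianRing R] [Module.Projective R C]
    (hker : ∀ (K : Type u) [AddCommGroup K] [Module R K] (a b : ℕ) (g : K →ₗ[R] (Fin a → R))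
      (f : (Fin a → R) →ₗ[R] (Fin b → R)), Function.Injective g → Function.Exact g f → Module.Projective R K)
    {C₀ : Submodule R C} (hC₀ : C₀.FG) :
    ∃ D : Submodule R C, C₀ ≤ D ∧ D.FG ∧ Module.Projective R D ∧
      ∀ x ∈ D, (comul (R := R) x : C ⊗[R] C) ∈ LinearMap.range (D.subtype.lTensor C) := by
  classical
  obtain ⟨S, hS⟩ := hC₀
  choose P hP using fun x : C => TensorProduct.exists_finset (comul (R := R) x : C ⊗[R] C)
  obtain ⟨s, hs⟩ := Module.projective_def.mp ‹Module.Projective R C›
  let T : Finset C := S.biUnion fun y => (P y).biUnion fun p => (s p.2).support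
  let I : Submodule R C := Submodule.span R {y | ∃ a : Module.Dual R C, ∃ x ∈ S, translateL a x = y}
  let D : Submodule R C := I.dualAnnihilator.dualCoannihilator
  have hmemD : ∀ {x}, x ∈ D ↔ ∀ ν : Module.Dual R C, (∀ y ∈ I, ν y = 0) → ν x = 0 := by
    intro x
    simp [D, Submodule.mem_dualCoannihilator, Submodule.mem_dualAnnihilator]
  have hSI : C₀ ≤ I := hS ▸ Submodule.span_le.mpr fun x hx => Submodule.subset_span
    ⟨counit, x, hx, by simp [translateL]⟩
  have hID : I ≤ D := Submodule.le_dualAnnihilator_dualCoannihilator _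
  have hsupp : ∀ y ∈ I, s y ∈ Finsupp.supported R R (T : Set C) := by
    refine fun y hy => (Submodule.span_le (p := (Finsupp.supported R R (T : Set C)).comap s)).mpr ?_ hy
    rintro y ⟨a, x, hx, rfl⟩
    show s (TensorProduct.lid R C (a.rTensor C (comul x))) ∈ Finsupp.supported R R (T : Set C)
    rw [hP x]
    simp only [map_sum, LinearMap.rTensor_tmul, TensorProduct.lid_tmul, map_smul]
    exact Submodule.sum_mem _ fun p hp => Submodule.smul_mem _ _ fun c hc =>
      Finset.mem_biUnion.mpr ⟨x, hx, Finset.mem_biUnion.mpr ⟨p, hp, hc⟩⟩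
  let res : C →ₗ[R] (T → R) := LinearMap.pi fun t : T => Finsupp.lapply (t : C) ∘ₗ s
  let ext : (T → R) →ₗ[R] C := Fintype.linearCombination R (fun t : T => (t : C))
  have hext : ∀ x, s x ∈ Finsupp.supported R R (T : Set C) → ext (res x) = x := by
    intro x hx
    conv_rhs => rw [← hs x, Finsupp.linearCombination_apply_of_mem_supported R hx]
    exact Finset.sum_coe_sort T (fun c => s x c • c)
  let A' : Submodule R (Module.Dual R (T → R)) := (I.map res).dualAnnihilator
  obtain ⟨k, μ, hμ⟩ := Submodule.fg_iff_exists_fin_generating_family.mp (IsNoetherian.noetherian A')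
  have hμI : ∀ j, ∀ y ∈ I, μ j (res y) = 0 := fun j y hy =>
    (Submodule.mem_dualAnnihilator (μ j)).mp (show μ j ∈ A' from hμ ▸ Submodule.subset_span ⟨j, rfl⟩) _
      (Submodule.mem_map_of_mem hy)
  have hA' : ∀ v, (∀ j, μ j v = 0) → ∀ l ∈ A', l v = 0 := fun v hv l hl => by
    rw [← hμ] at hl
    exact (Submodule.span_le (p := LinearMap.ker (Module.Dual.eval R (T → R) v))).mpr
      (Set.range_subset_iff.mpr hv) hl
  have hν : ∀ ν : Module.Dual R C, (∀ y ∈ I, ν y = 0) → ν ∘ₗ ext ∈ A' := by
    refine fun ν hν => (Submodule.mem_dualAnnihilator _).mpr ?_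
    rintro _ ⟨y, hy, rfl⟩
    rw [LinearMap.comp_apply, hext y (hsupp y hy), hν y hy]
  let J := {c : C | c ∉ T} ⊕ Fin k
  let q : C →ₗ[R] (J →₀ R) := (Finsupp.sumFinsuppLEquivProdFinsupp R).symm.toLinearMap ∘ₗ
    LinearMap.prod (Finsupp.lsubtypeDomain {c : C | c ∉ T} ∘ₗ s)
      ((Finsupp.linearEquivFunOnFinite R R (Fin k)).symm.toLinearMap ∘ₗ LinearMap.pi μ ∘ₗ res)
  have hq1 : ∀ c : {c : C | c ∉ T}, ∀ x, q x (Sum.inl c) = s x c := fun _ _ => rfl
  have hq2 : ∀ j : Fin k, ∀ x, q x (Sum.inr j) = μ j (res x) := fun _ _ => rfl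
  have hqI : ∀ i : J, ∀ y ∈ I, q y i = 0 := by
    rintro (c | j) y hy
    · rw [hq1]
      exact Finsupp.notMem_support_iff.mp fun h => c.2 (hsupp y hy h)
    · rw [hq2]
      exact hμI j y hy
  have hqD : ∀ i : J, ∀ x ∈ D, q x i = 0 := fun i x hx => hmemD.mp hx (Finsupp.lapply i ∘ₗ q) (hqI i)
  have hDsupp : ∀ x, (∀ c : {c : C | c ∉ T}, q x (Sum.inl c) = 0) → s x ∈ Finsupp.supported R R (T : Set C) :=
    fun x hx c hc => by_contra fun hcT => Finsupp.mem_support_iff.mp hc (hq1 ⟨c, hcT⟩ x ▸ hx ⟨c, hcT⟩)
  have hex : Function.Exact D.subtype q := by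
    intro x
    refine ⟨fun hx => ⟨⟨x, hmemD.mpr fun ν hν' => ?_⟩, rfl⟩, ?_⟩
    · rw [← hext x (hDsupp x fun c => by rw [hx]; rfl)]
      exact hA' _ (fun j => by rw [← hq2, hx]; rfl) _ (hν ν hν')
    · rintro ⟨y, rfl⟩
      exact Finsupp.ext fun i => hqD i y y.2
  have hinj : Function.Injective (res ∘ₗ D.subtype) := fun x y h => by
    have h' := congrArg ext h
    simp only [LinearMap.comp_apply, Submodule.coe_subtype] at h'
    rw [hext _ (hDsupp _ fun c => hqD _ _ x.2),
      hext _ (hDsupp _ fun c => hqD _ _ y.2)] at h'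
    exact Subtype.ext h'
  have hexact : Function.Exact (res ∘ₗ D.subtype) (LinearMap.pi μ) := by
    intro v
    refine ⟨fun hv => ?_, ?_⟩
    · have hv' : ∀ j, μ j v = 0 := congrFun hv
      refine ⟨⟨ext v, hmemD.mpr fun ν hν' => hA' v hv' _ (hν ν hν')⟩, funext fun t => ?_⟩
      refine sub_eq_zero.mp (hA' v hv' (LinearMap.proj t ∘ₗ res ∘ₗ ext - LinearMap.proj t) ?_)
      refine (Submodule.mem_dualAnnihilator _).mpr ?_
      rintro _ ⟨y, hy, rfl⟩
      simp [hext y (hsupp y hy)]
    · rintro ⟨x, rfl⟩
      exact funext fun j => (hq2 j x).symm.trans (hqD _ _ x.2)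
  have hproj : Module.Projective R D := by
    let e : (T → R) ≃ₗ[R] (Fin T.card → R) := LinearEquiv.funCongrLeft R R T.equivFin.symm
    refine hker D T.card k (e.toLinearMap ∘ₗ res ∘ₗ D.subtype) (LinearMap.pi μ ∘ₗ e.symm.toLinearMap)
      (e.injective.comp hinj) ?_
    intro v
    refine ⟨fun hv => ?_, ?_⟩
    · obtain ⟨x, hx⟩ := (hexact _).mp hv
      exact ⟨x, by rw [LinearMap.comp_apply, hx]; exact e.apply_symm_apply v⟩
    · rintro ⟨x, rfl⟩
      exact (congrArg (LinearMap.pi μ) (e.symm_apply_apply _)).trans ((hexact _).mpr ⟨x, rfl⟩)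
  refine ⟨D, hSI.trans hID, Module.Finite.iff_fg.mp (Module.Finite.of_injective _ hinj), hproj, fun x hx => ?_⟩
  refine (Module.Flat.lTensor_exact C hex (comul x)).mp ((TensorProduct.finsuppScalarRight R R C J).injective ?_)
  rw [map_zero]
  ext i
  rw [TensorProduct.finsuppScalarRight_apply, ← LinearMap.lTensor_comp_apply, Finsupp.zero_apply]
  let ν : Module.Dual R C := Finsupp.lapply i ∘ₗ q
  show TensorProduct.rid R C (ν.lTensor C (comul x)) = 0
  have hswap : ∀ (a : Module.Dual R C) (z : C ⊗[R] C),
      a (TensorProduct.rid R C (ν.lTensor C z)) = ν (TensorProduct.lid R C (a.rTensor C z)) := fun a z => by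
    induction z using TensorProduct.induction_on with
    | zero => simp
    | add p r hp hr => simp only [map_add, hp, hr]
    | tmul p r => simp [mul_comm]
  refine (Function.LeftInverse.injective hs) ((Finsupp.ext fun c => ?_).trans (map_zero s).symm)
  rw [Finsupp.zero_apply]
  refine (hswap (Finsupp.lapply c ∘ₗ s) _).trans (hmemD.mp hx (ν ∘ₗ translateL (Finsupp.lapply c ∘ₗ s)) fun y hy => ?_)
  refine (Submodule.span_le (p := LinearMap.ker (ν ∘ₗ translateL (Finsupp.lapply c ∘ₗ s)))).mpr ?_ hy
  rintro y ⟨a, z, hz, rfl⟩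
  show ν (translateL _ (translateL a z)) = 0
  rw [translateL_translateL]
  exact hqI i _ (Submodule.subset_span ⟨_, z, hz, rfl⟩)

end Groth.Agent.CoefLib
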