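import Groth.Prelude.Def_HopfRep
import Groth.Agent.CoefLib.LeftSubcomodule
import Mathlib.RingTheory.TensorProduct.DirectLimitFG
import Mathlib.RingTheory.TensorProduct.Finite
import Mathlib.LinearAlgebra.TensorProduct.Pi

/-!
# Finite comodules are quotients of finite projective comodules

The dual of a finite projective left subcomodule of a flat coalgebra is a right comodule; if every finitely generated
submodule lies in such a left subcomodule, every finite comodule is a quotient of a sum of these duals.
-/

universe u

open TensorProduct Coalgebra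

namespace Groth.Agent.CoefLib

variable {R : Type u} [CommRing R] {C : Type u} [AddCommGroup C] [Module R C] [Coalgebra R C]

/-- Finitely many equalities in `G ⊗ M` already hold in `G ⊗ Q` for a finitely generated `Q`. -/
theorem exists_fg_eq_lTensor {M G : Type u} [AddCommGroup M] [Module R M] [AddCommGroup G] [Module R G]
    {P : Submodule R M} (hP : P.FG) {n : ℕ} (Z Z' : Fin n → G ⊗[R] P)
    (h : ∀ k, P.subtype.lTensor G (Z k) = P.subtype.lTensor G (Z' k)) :
    ∃ (Q : Submodule R M) (hPQ : P ≤ Q), Q.FG ∧
      ∀ k, (Submodule.inclusion hPQ).lTensor G (Z k) = (Submodule.inclusion hPQ).lTensor G (Z' k) := by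
  have hc : ∀ {N N' : Type u} [AddCommGroup N] [Module R N] [AddCommGroup N'] [Module R N'] (f : N →ₗ[R] N')
      (z : G ⊗[R] N), f.rTensor G (TensorProduct.comm R G N z) = TensorProduct.comm R G N' (f.lTensor G z) := by
    intro N N' _ _ _ _ f z
    induction z using TensorProduct.induction_on with
    | zero => simp
    | add a b ha hb => simp only [map_add, ha, hb]
    | tmul a b => simp
  have h1 : ∀ k, ∃ (Q : Submodule R M) (hPQ : P ≤ Q), Q.FG ∧
      (Submodule.inclusion hPQ).lTensor G (Z k) = (Submodule.inclusion hPQ).lTensor G (Z' k) := by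
    intro k
    obtain ⟨Q, hPQ, hQ, he⟩ := TensorProduct.eq_of_fg_of_subtype_eq hP
      (t := TensorProduct.comm R G P (Z k)) (t' := TensorProduct.comm R G P (Z' k))
      ((hc _ _).trans ((congrArg _ (h k)).trans (hc _ _).symm))
    exact ⟨Q, hPQ, hQ, (TensorProduct.comm R G Q).injective ((hc _ _).symm.trans (he.trans (hc _ _)))⟩
  choose Q hPQ hQ he using h1
  refine ⟨P ⊔ ⨆ k, Q k, le_sup_left, hP.sup (Submodule.fg_iSup _ hQ), fun k => ?_⟩
  have hk : Submodule.inclusion (le_sup_left : P ≤ P ⊔ ⨆ k, Q k) =
      Submodule.inclusion ((le_iSup Q k).trans le_sup_right) ∘ₗ Submodule.inclusion (hPQ k) := rfl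
  rw [hk, LinearMap.lTensor_comp_apply, LinearMap.lTensor_comp_apply, he k]

variable {D : Submodule R C} (ρ : D →ₗ[R] C ⊗[R] D)

/-- The `C`-component of a left coaction at a functional. -/
noncomputable def coefMap (l : Module.Dual R D) : D →ₗ[R] C :=
  (TensorProduct.rid R C).toLinearMap ∘ₗ l.lTensor C ∘ₗ ρ

/-- Expansion along a dual basis. -/
theorem lTensor_eq_sum {n : ℕ} {d : Fin n → D} {φ : Fin n → Module.Dual R D} (hd : ∀ x, ∑ i, φ i x • d i = x)
    {G N : Type u} [AddCommGroup G] [Module R G] [AddCommGroup N] [Module R N] (f : D →ₗ[R] N) (z : G ⊗[R] D) :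
    f.lTensor G z = ∑ i, TensorProduct.rid R G ((φ i).lTensor G z) ⊗ₜ[R] f (d i) := by
  induction z using TensorProduct.induction_on with
  | zero => simp
  | add a b ha hb => simp only [map_add, add_tmul, Finset.sum_add_distrib, ha, hb]
  | tmul a x =>
    conv_lhs => rw [← hd x]
    simp [smul_tmul', tmul_sum, tmul_smul]

/-- The coaction on the dual of a left subcomodule, written in a dual basis. -/
noncomputable def dualCoact {n : ℕ} (d : Fin n → D) (φ : Fin n → Module.Dual R D) :
    Module.Dual R D →ₗ[R] Module.Dual R D ⊗[R] C :=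
  ∑ i, TensorProduct.mk R _ C (φ i) ∘ₗ ((TensorProduct.rid R C).toLinearMap ∘ₗ
    LinearMap.applyₗ (ρ (d i)) ∘ₗ LinearMap.lTensorHom C)

theorem dualCoact_apply {n : ℕ} (d : Fin n → D) (φ : Fin n → Module.Dual R D) (l : Module.Dual R D) :
    dualCoact ρ d φ l = ∑ i, φ i ⊗ₜ[R] coefMap ρ l (d i) := by
  simp [dualCoact, coefMap, LinearMap.sum_apply]

variable [Module.Flat R C] (hρ : ∀ x, D.subtype.lTensor C (ρ x) = comul (R := R) (x : C))
include hρ

theorem counit_rTensor_coact (x : D) : TensorProduct.lid R D ((counit (R := R) (A := C)).rTensor D (ρ x)) = x := by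
  refine Subtype.ext ?_
  have h1 : ∀ z, ((TensorProduct.lid R D ((counit (R := R) (A := C)).rTensor D z) : D) : C) =
      TensorProduct.lid R C ((counit (R := R) (A := C)).rTensor C (D.subtype.lTensor C z)) := fun z => by
    induction z using TensorProduct.induction_on with
    | zero => simp
    | add a b ha hb => simp only [map_add, Submodule.coe_add, ha, hb]
    | tmul a b => simp
  rw [h1, hρ, rTensor_counit_comul, TensorProduct.lid_tmul, one_smul]

theorem counit_coefMap (l : Module.Dual R D) (x : D) : counit (R := R) (coefMap ρ l x) = l x := by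
  have h1 : ∀ z, counit (R := R) (TensorProduct.rid R C (l.lTensor C z)) =
      l (TensorProduct.lid R D ((counit (R := R) (A := C)).rTensor D z)) := fun z => by
    induction z using TensorProduct.induction_on with
    | zero => simp
    | add a b ha hb => simp only [map_add, ha, hb]
    | tmul a b => simp [mul_comm]
  exact (h1 _).trans (congrArg l (counit_rTensor_coact ρ hρ x))

theorem comul_coefMap {n : ℕ} {d : Fin n → D} {φ : Fin n → Module.Dual R D} (hd : ∀ x, ∑ i, φ i x • d i = x)
    (l : Module.Dual R D) (x : D) :
    comul (R := R) (coefMap ρ l x) = ∑ i, coefMap ρ (φ i) x ⊗ₜ[R] coefMap ρ l (d i) := by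
  have hco : TensorProduct.assoc R C C D ((comul (R := R) (A := C)).rTensor D (ρ x)) = ρ.lTensor C (ρ x) := by
    apply Module.Flat.lTensor_preserves_injective_linearMap (M := C) (D.subtype.lTensor C)
      (Module.Flat.lTensor_preserves_injective_linearMap D.subtype D.injective_subtype)
    have h1 : ∀ z, (D.subtype.lTensor C).lTensor C
        (TensorProduct.assoc R C C D ((comul (R := R) (A := C)).rTensor D z)) =
        TensorProduct.assoc R C C C ((comul (R := R) (A := C)).rTensor C (D.subtype.lTensor C z)) := fun z => by
      induction z using TensorProduct.induction_on with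
      | zero => simp
      | add a b ha hb => simp only [map_add, ha, hb]
      | tmul a b =>
        simp only [LinearMap.rTensor_tmul, LinearMap.lTensor_tmul]
        induction (comul (R := R) a : C ⊗[R] C) using TensorProduct.induction_on with
        | zero => simp
        | add u v hu hv => simp only [map_add, add_tmul, hu, hv]
        | tmul u v => simp
    have h2 : ∀ z, (D.subtype.lTensor C).lTensor C (ρ.lTensor C z) =
        (comul (R := R) (A := C)).lTensor C (D.subtype.lTensor C z) := fun z => by
      induction z using TensorProduct.induction_on with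
      | zero => simp
      | add a b ha hb => simp only [map_add, ha, hb]
      | tmul a b => simp [hρ b]
    rw [h1, h2, hρ, coassoc_apply]
  have h3 : ∀ z, comul (R := R) (TensorProduct.rid R C (l.lTensor C z)) =
      ((TensorProduct.rid R C).toLinearMap ∘ₗ l.lTensor C).lTensor C
        (TensorProduct.assoc R C C D ((comul (R := R) (A := C)).rTensor D z)) := fun z => by
    induction z using TensorProduct.induction_on with
    | zero => simp
    | add a b ha hb => simp only [map_add, ha, hb]
    | tmul a b =>
      simp only [LinearMap.rTensor_tmul, LinearMap.lTensor_tmul, TensorProduct.rid_tmul, map_smul]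
      induction (comul (R := R) a : C ⊗[R] C) using TensorProduct.induction_on with
      | zero => simp
      | add u v hu hv => simp only [map_add, add_tmul, smul_add, hu, hv]
      | tmul u v => simp [tmul_smul]
  exact (h3 _).trans ((congrArg _ hco).trans ((LinearMap.lTensor_comp_apply C _ ρ (ρ x)).symm.trans
    (lTensor_eq_sum hd (coefMap ρ l) (ρ x))))

/-- The dual of a finite projective left subcomodule is a right comodule. -/
@[reducible] noncomputable def dualComod {n : ℕ} {d : Fin n → D} {φ : Fin n → Module.Dual R D}
    (hd : ∀ x, ∑ i, φ i x • d i = x) : HopfRep.Comod R C (Module.Dual R D) where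
  coact := dualCoact ρ d φ
  coassoc := by
    ext l
    simp only [LinearMap.comp_apply, LinearEquiv.coe_coe, dualCoact_apply, map_sum, LinearMap.rTensor_tmul,
      LinearMap.lTensor_tmul, TensorProduct.sum_tmul, TensorProduct.assoc_tmul]
    rw [Finset.sum_comm]
    refine Finset.sum_congr rfl fun j _ => ?_
    rw [comul_coefMap ρ hρ hd, tmul_sum]
  counit_comp := by
    ext l
    simp only [LinearMap.comp_apply, dualCoact_apply, map_sum, LinearMap.lTensor_tmul, counit_coefMap ρ hρ,
      LinearMap.flip_apply, TensorProduct.mk_apply]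
    conv_rhs => rw [show l = ∑ i, l (d i) • φ i from LinearMap.ext fun x => by
      conv_lhs => rw [← hd x]
      simp [mul_comm]]
    rw [sum_tmul]
    exact Finset.sum_congr rfl fun i _ => by rw [smul_tmul, smul_eq_mul, mul_one]

omit hρ [Module.Flat R C] in
/-- The finite power of a comodule is a comodule. -/
@[reducible] noncomputable def piComod {E : Type u} [AddCommGroup E] [Module R E] [HopfRep.Comod R C E] (n : ℕ) :
    HopfRep.Comod R C (Fin n → E) where
  coact := ∑ k, (LinearMap.single R (fun _ : Fin n => E) k).rTensor C ∘ₗ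
    HopfRep.Comod.coact (k := R) (A := C) (V := E) ∘ₗ LinearMap.proj k
  coassoc := by
    set δ := ∑ k, (LinearMap.single R (fun _ : Fin n => E) k).rTensor C ∘ₗ
      HopfRep.Comod.coact (k := R) (A := C) (V := E) ∘ₗ LinearMap.proj k with hδ
    have hs : ∀ k e, δ (LinearMap.single R (fun _ : Fin n => E) k e) =
        (LinearMap.single R (fun _ : Fin n => E) k).rTensor C (HopfRep.Comod.coact (k := R) (A := C) e) := by
      intro k e
      simp only [hδ, LinearMap.sum_apply, LinearMap.comp_apply, LinearMap.proj_apply]
      rw [Finset.sum_eq_single k (fun j _ hj => by simp [Pi.single_eq_of_ne hj]) (by simp)]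
      simp
    refine LinearMap.pi_ext' fun k => LinearMap.ext fun e => ?_
    simp only [LinearMap.comp_apply, LinearEquiv.coe_coe, hs]
    have h1 : ∀ z, TensorProduct.assoc R _ C C (δ.rTensor C
        ((LinearMap.single R (fun _ : Fin n => E) k).rTensor C z)) =
        (LinearMap.single R (fun _ : Fin n => E) k).rTensor (C ⊗[R] C)
          (TensorProduct.assoc R E C C ((HopfRep.Comod.coact (k := R) (A := C)).rTensor C z)) := fun z => by
      induction z using TensorProduct.induction_on with
      | zero => simp
      | add a b ha hb => simp only [map_add, ha, hb]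
      | tmul a b =>
        simp only [LinearMap.rTensor_tmul, hs]
        induction HopfRep.Comod.coact (k := R) (A := C) a using TensorProduct.induction_on with
        | zero => simp
        | add u v hu hv => simp only [map_add, add_tmul, hu, hv]
        | tmul u v => simp
    have h2 : ∀ z, (comul (R := R) (A := C)).lTensor (Fin n → E)
        ((LinearMap.single R (fun _ : Fin n => E) k).rTensor C z) =
        (LinearMap.single R (fun _ : Fin n => E) k).rTensor (C ⊗[R] C) ((comul (R := R) (A := C)).lTensor E z) :=
      fun z => by rw [← LinearMap.comp_apply, ← LinearMap.comp_apply, LinearMap.lTensor_comp_rTensor,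
        LinearMap.rTensor_comp_lTensor]
    rw [h1, h2]
    exact congrArg _ (LinearMap.congr_fun (HopfRep.Comod.coassoc (k := R) (A := C) (V := E)) e)
  counit_comp := by
    refine LinearMap.pi_ext' fun k => LinearMap.ext fun e => ?_
    simp only [LinearMap.comp_apply, LinearMap.sum_apply, LinearMap.proj_apply]
    rw [Finset.sum_eq_single k (fun j _ hj => by simp [Pi.single_eq_of_ne hj]) (by simp)]
    simp only [LinearMap.single_apply, Pi.single_eq_same]
    rw [← LinearMap.comp_apply, LinearMap.lTensor_comp_rTensor, ← LinearMap.rTensor_comp_lTensor, LinearMap.comp_apply,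
      ← LinearMap.comp_apply (f := (counit (R := R) (A := C)).lTensor E), HopfRep.Comod.counit_comp]
    simp

omit hρ [Module.Flat R C] in
/-- If finitely generated submodules lie in finite projective left subcomodules, finite comodules are quotients of
finite projective comodules. -/
theorem exists_comod_quotient [Module.Flat R C]
    (hD : ∀ C₀ : Submodule R C, C₀.FG → ∃ D : Submodule R C, C₀ ≤ D ∧ D.FG ∧ Module.Projective R D ∧
      ∀ x ∈ D, (comul (R := R) x : C ⊗[R] C) ∈ LinearMap.range (D.subtype.lTensor C))
    (F : Type u) [AddCommGroup F] [Module R F] [HopfRep.Comod R C F] [Module.Finite R F] :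
    ∃ (V : Type u) (_ : AddCommGroup V) (_ : Module R V) (_ : HopfRep.Comod R C V) (Φ : V →ₗ[R] F),
      Module.Finite R V ∧ Module.Projective R V ∧ Function.Surjective Φ ∧
      HopfRep.Comod.coact (k := R) (A := C) ∘ₗ Φ =
        Φ.rTensor C ∘ₗ HopfRep.Comod.coact (k := R) (A := C) (V := V) := by
  classical
  obtain ⟨n, f, hf⟩ := Module.Finite.exists_fin (R := R) (M := F)
  let co : F →ₗ[R] F ⊗[R] C := HopfRep.Comod.coact (k := R) (A := C)
  obtain ⟨C₀, hC₀, hsub⟩ := Submodule.exists_fg_le_subset_range_rTensor_subtype
    (Set.range fun k => TensorProduct.comm R F C (co (f k))) (Set.finite_range _)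
  obtain ⟨D, hCD, hDfg, hDproj, hDsub⟩ := hD C₀ hC₀
  have hlift : ∀ k, ∃ z : F ⊗[R] D, D.subtype.lTensor F z = co (f k) := fun k => by
    obtain ⟨y, hy⟩ := hsub ⟨k, rfl⟩
    refine ⟨(Submodule.inclusion hCD).lTensor F (TensorProduct.comm R C₀ F y), ?_⟩
    apply (TensorProduct.comm R F C).injective
    rw [← LinearMap.lTensor_comp_apply, show D.subtype ∘ₗ Submodule.inclusion hCD = C₀.subtype from rfl]
    refine Eq.trans ?_ hy
    clear hy
    induction y using TensorProduct.induction_on with
    | zero => simp
    | add a b ha hb => simp only [map_add, ha, hb]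
    | tmul a b => simp
  choose z hz using hlift
  have getρ : ∀ (P : Submodule R C), (∀ x ∈ P, (comul (R := R) x : C ⊗[R] C) ∈ LinearMap.range (P.subtype.lTensor C)) →
      ∃ ρ : P →ₗ[R] C ⊗[R] P, ∀ x, P.subtype.lTensor C (ρ x) = comul (R := R) (x : C) := fun P hP => by
    have hinj : Function.Injective (P.subtype.lTensor C) :=
      Module.Flat.lTensor_preserves_injective_linearMap _ P.injective_subtype
    exact ⟨(LinearEquiv.ofInjective _ hinj).symm.toLinearMap ∘ₗ
      ((comul (R := R) (A := C)).comp P.subtype).codRestrict _ fun x => hP x x.2,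
      fun x => congrArg Subtype.val ((LinearEquiv.ofInjective _ hinj).apply_symm_apply ⟨_, hP x x.2⟩)⟩
  obtain ⟨ρ, hρ⟩ := getρ D hDsub
  obtain ⟨Q, hDQ, hQ, heq⟩ := exists_fg_eq_lTensor hDfg (fun k => co.rTensor D (z k))
    (fun k => (TensorProduct.assoc R F C D).symm (ρ.lTensor F (z k))) (fun k => by
      have h1 : ∀ w, D.subtype.lTensor (F ⊗[R] C) ((TensorProduct.assoc R F C D).symm (ρ.lTensor F w)) =
          (TensorProduct.assoc R F C C).symm ((comul (R := R) (A := C)).lTensor F (D.subtype.lTensor F w)) := fun w => by
        induction w using TensorProduct.induction_on with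
        | zero => simp
        | add a b ha hb => simp only [map_add, ha, hb]
        | tmul a b =>
          simp only [LinearMap.lTensor_tmul, Submodule.coe_subtype, ← hρ b]
          induction ρ b using TensorProduct.induction_on with
          | zero => simp
          | add u v hu hv => simp only [tmul_add, map_add, hu, hv]
          | tmul u v => simp
      rw [h1, hz, ← LinearMap.comp_apply, LinearMap.lTensor_comp_rTensor, ← LinearMap.rTensor_comp_lTensor,
        LinearMap.comp_apply, hz, eq_comm, LinearEquiv.symm_apply_eq]
      exact (LinearMap.congr_fun (HopfRep.Comod.coassoc (k := R) (A := C) (V := F)) (f k)).symm)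
  obtain ⟨E, hQE, hEfg, hEproj, hEsub⟩ := hD Q hQ
  obtain ⟨σ, hσ⟩ := getρ E hEsub
  haveI : Module.Finite R E := Module.Finite.iff_fg.mpr hEfg
  let inc : D →ₗ[R] E := Submodule.inclusion (hDQ.trans hQE)
  let w : Fin n → F ⊗[R] E := fun k => inc.lTensor F (z k)
  have hσρ : σ ∘ₗ inc = inc.lTensor C ∘ₗ ρ := LinearMap.ext fun x =>
    Module.Flat.lTensor_preserves_injective_linearMap E.subtype E.injective_subtype
      ((hσ (inc x)).trans ((hρ x).symm.trans (LinearMap.lTensor_comp_apply C E.subtype inc (ρ x))))
  have hwf : ∀ k, E.subtype.lTensor F (w k) = co (f k) := fun k =>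
    (LinearMap.lTensor_comp_apply F E.subtype inc (z k)).symm.trans (hz k)
  have hw : ∀ k, co.rTensor E (w k) = (TensorProduct.assoc R F C E).symm (σ.lTensor F (w k)) := fun k => by
    have h1 : ∀ y, co.rTensor E (inc.lTensor F y) = inc.lTensor (F ⊗[R] C) (co.rTensor D y) := fun y => by
      rw [← LinearMap.comp_apply, LinearMap.rTensor_comp_lTensor, ← LinearMap.lTensor_comp_rTensor,
        LinearMap.comp_apply]
    have h2 : ∀ y, (TensorProduct.assoc R F C E).symm (σ.lTensor F (inc.lTensor F y)) =
        inc.lTensor (F ⊗[R] C) ((TensorProduct.assoc R F C D).symm (ρ.lTensor F y)) := fun y => by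
      rw [← LinearMap.lTensor_comp_apply, hσρ, LinearMap.lTensor_comp_apply]
      induction ρ.lTensor F y using TensorProduct.induction_on with
      | zero => simp
      | add a b ha hb => simp only [map_add, ha, hb]
      | tmul a b =>
        induction b using TensorProduct.induction_on with
        | zero => simp
        | add u v hu hv => simp only [tmul_add, map_add, hu, hv]
        | tmul u v => simp
    rw [h1, h2]
    rw [show inc = Submodule.inclusion hQE ∘ₗ Submodule.inclusion hDQ from rfl,
      LinearMap.lTensor_comp_apply, LinearMap.lTensor_comp_apply]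
    exact congrArg _ (heq k)
  obtain ⟨m, p, q, -, -, hpq⟩ := Module.Finite.exists_comp_eq_id_of_projective R E
  let d : Fin m → E := fun i => p (Pi.single i 1)
  let φ : Fin m → Module.Dual R E := fun i => LinearMap.proj i ∘ₗ q
  have hd : ∀ x, ∑ i, φ i x • d i = x := fun x => by
    simp only [φ, d, ← map_smul, ← map_sum]
    conv_rhs => rw [← LinearMap.id_apply (R := R) x, ← hpq, LinearMap.comp_apply, pi_eq_sum_univ (q x)]
    exact congrArg p (Finset.sum_congr rfl fun i _ => by
      congr 1
      funext j
      simp [Pi.single_apply, eq_comm])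
  letI := dualComod σ hσ hd
  letI := piComod (R := R) (C := C) (E := Module.Dual R E) n
  let Φ₁ : Fin n → Module.Dual R E →ₗ[R] F := fun k =>
    (TensorProduct.rid R F).toLinearMap ∘ₗ LinearMap.applyₗ (w k) ∘ₗ LinearMap.lTensorHom F
  let Φ : (Fin n → Module.Dual R E) →ₗ[R] F := ∑ k, Φ₁ k ∘ₗ LinearMap.proj k
  have hΦs : ∀ k e, Φ (LinearMap.single R (fun _ : Fin n => Module.Dual R E) k e) = Φ₁ k e := by
    intro k e
    simp only [Φ, LinearMap.sum_apply, LinearMap.comp_apply, LinearMap.proj_apply]
    rw [Finset.sum_eq_single k (fun j _ hj => by simp [Pi.single_eq_of_ne hj]) (by simp)]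
    simp
  haveI : Module.Projective R (Fin n → Module.Dual R E) :=
    Module.Projective.of_split
      (LinearMap.pi fun k : Fin n => LinearMap.pi fun i : Fin m => LinearMap.applyₗ (d i) ∘ₗ LinearMap.proj k)
      (LinearMap.pi fun k : Fin n => (Fintype.linearCombination R φ) ∘ₗ LinearMap.proj k)
      (LinearMap.ext fun Λ => funext fun k => LinearMap.ext fun x => by
        conv_rhs => rw [← hd x]
        simp [Fintype.linearCombination_apply, mul_comm])
  refine ⟨Fin n → Module.Dual R E, inferInstance, inferInstance, inferInstance, Φ, inferInstance, inferInstance,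
    LinearMap.range_eq_top.mp (eq_top_iff.mpr (hf ▸ Submodule.span_le.mpr ?_)), ?_⟩
  · refine LinearMap.pi_ext' fun k => LinearMap.ext fun l => ?_
    have hcoact : HopfRep.Comod.coact (k := R) (A := C) (LinearMap.single R (fun _ : Fin n => Module.Dual R E) k l) =
        (LinearMap.single R (fun _ : Fin n => Module.Dual R E) k).rTensor C (dualCoact σ d φ l) := by
      show (∑ j, (LinearMap.single R (fun _ : Fin n => Module.Dual R E) j).rTensor C ∘ₗ
        dualCoact σ d φ ∘ₗ LinearMap.proj j) _ = _
      simp only [LinearMap.sum_apply, LinearMap.comp_apply, LinearMap.proj_apply]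
      rw [Finset.sum_eq_single k (fun j _ hj => by simp [Pi.single_eq_of_ne hj]) (by simp)]
      simp
    simp only [LinearMap.comp_apply, hΦs, hcoact, dualCoact_apply, map_sum, LinearMap.rTensor_tmul, hΦs]
    show co (TensorProduct.rid R F (l.lTensor F (w k))) =
      ∑ i, TensorProduct.rid R F ((φ i).lTensor F (w k)) ⊗ₜ[R] coefMap σ l (d i)
    have h1 : ∀ y, co (TensorProduct.rid R F (l.lTensor F y)) =
        TensorProduct.rid R (F ⊗[R] C) (l.lTensor (F ⊗[R] C) (co.rTensor E y)) := fun y => by
      induction y using TensorProduct.induction_on with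
      | zero => simp
      | add a b ha hb => simp only [map_add, ha, hb]
      | tmul a b => simp
    have h2 : ∀ y, TensorProduct.rid R (F ⊗[R] C) (l.lTensor (F ⊗[R] C) ((TensorProduct.assoc R F C E).symm
        (σ.lTensor F y))) = (coefMap σ l).lTensor F y := fun y => by
      rw [coefMap, LinearMap.lTensor_comp_apply, LinearMap.lTensor_comp_apply]
      induction σ.lTensor F y using TensorProduct.induction_on with
      | zero => simp
      | add a b ha hb => simp only [map_add, ha, hb]
      | tmul a b =>
        induction b using TensorProduct.induction_on with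
        | zero => simp
        | add u v hu hv => simp only [tmul_add, map_add, hu, hv]
        | tmul u v => simp [tmul_smul]
    rw [h1, hw, h2, lTensor_eq_sum hd]
  · rintro _ ⟨k, rfl⟩
    refine ⟨LinearMap.single R (fun _ : Fin n => Module.Dual R E) k (counit (R := R) (A := C) ∘ₗ E.subtype), ?_⟩
    rw [hΦs]
    show TensorProduct.rid R F ((counit (R := R) (A := C) ∘ₗ E.subtype).lTensor F (w k)) = f k
    rw [LinearMap.lTensor_comp_apply, hwf, ← LinearMap.comp_apply (g := co), HopfRep.Comod.counit_comp]
    simp

end Groth.Agent.CoefLib
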