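import Mathlib.RingTheory.HopfAlgebra.Basic
import Mathlib.RingTheory.Flat.Basic
import Mathlib.RingTheory.Noetherian.Basic
import Mathlib.LinearAlgebra.Matrix.Determinant.Basic
import Mathlib.LinearAlgebra.TensorProduct.Pi
import Mathlib.RingTheory.Finiteness.Projective

/-!
# Matrix corepresentations of a flat Hopf algebra whose finite subcomodules have projective duals

If the kernels of maps between finite free modules are projective, every finite subset of a flat Hopf algebra lies in
the algebra generated by the entries and the inverse determinant of a matrix corepresentation.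
-/

universe u

open TensorProduct Coalgebra

namespace Groth.Agent.CoefLib

variable {R : Type u} [CommRing R] {A : Type u}

section Coalg

variable [AddCommGroup A] [Module R A] [Coalgebra R A] [Module.Flat R A]

/-- Finitely many elements of a flat coalgebra lie in a finitely generated subcomodule. -/
theorem exists_subcomodule [IsNoetherianRing R] (F : Finset A) :
    ∃ M : Submodule R A, M.FG ∧ (↑F : Set A) ⊆ M ∧
      ∀ m ∈ M, (comul (R := R) m : A ⊗[R] A) ∈ LinearMap.range (M.subtype.rTensor A) := by
  classical
  choose S hS using fun f : A => TensorProduct.exists_finset (comul (R := R) f : A ⊗[R] A)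
  let V : Submodule R A := Submodule.span R ((F.biUnion fun f => (S f).image Prod.fst : Finset A) : Set A)
  let W : Submodule R (A ⊗[R] A) := LinearMap.range (V.subtype.rTensor A)
  let g : A →ₗ[R] (A ⊗[R] A) ⧸ W := W.mkQ ∘ₗ comul
  refine ⟨LinearMap.ker g, ?_, fun f hf => ?_, fun m hm => ?_⟩
  · refine Submodule.FG.of_le (Submodule.fg_span (Finset.finite_toSet _) : V.FG) fun m hm => ?_
    obtain ⟨z, hz⟩ := (Submodule.Quotient.mk_eq_zero W).mp (LinearMap.mem_ker.mp hm)
    have h1 : TensorProduct.rid R A ((counit (R := R) (A := A)).lTensor A (comul m)) = m := by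
      rw [lTensor_counit_comul, TensorProduct.rid_tmul, one_smul]
    rw [← h1, ← hz]
    clear hz h1
    induction z using TensorProduct.induction_on with
    | zero => simp
    | add p q hp hq => rw [map_add, map_add, map_add]; exact V.add_mem hp hq
    | tmul v a => simp only [LinearMap.rTensor_tmul, LinearMap.lTensor_tmul, TensorProduct.rid_tmul]; exact V.smul_mem _ v.2
  · refine (Submodule.Quotient.mk_eq_zero W).mpr ?_
    rw [hS f]
    refine Submodule.sum_mem _ fun p hp => ?_
    exact ⟨(⟨p.1, Submodule.subset_span (Finset.mem_biUnion.mpr ⟨f, hf, Finset.mem_image_of_mem _ hp⟩)⟩ : V) ⊗ₜ p.2, rfl⟩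
  · obtain ⟨z, hz⟩ := (Submodule.Quotient.mk_eq_zero W).mp (LinearMap.mem_ker.mp hm)
    refine (Module.Flat.rTensor_exact A (LinearMap.exact_subtype_ker_map g) (comul m)).mp ?_
    have h2 : ∀ z : V ⊗[R] A, W.mkQ.rTensor A ((TensorProduct.assoc R A A A).symm
        ((comul (R := R) (A := A)).lTensor A (V.subtype.rTensor A z))) = 0 := fun z => by
      induction z using TensorProduct.induction_on with
      | zero => simp
      | add p q hp hq => simp only [map_add, hp, hq, add_zero]
      | tmul v a =>
        simp only [LinearMap.rTensor_tmul, LinearMap.lTensor_tmul]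
        induction (comul (R := R) a : A ⊗[R] A) using TensorProduct.induction_on with
        | zero => simp
        | add p q hp hq => simp only [tmul_add, map_add, hp, hq, add_zero]
        | tmul b c =>
          rw [TensorProduct.assoc_symm_tmul, LinearMap.rTensor_tmul,
            show W.mkQ (V.subtype v ⊗ₜ[R] b) = 0 from (Submodule.Quotient.mk_eq_zero W).mpr ⟨v ⊗ₜ b, rfl⟩, zero_tmul]
    rw [show g.rTensor A (comul m) = W.mkQ.rTensor A ((comul (R := R) (A := A)).rTensor A (comul m)) by
      rw [← LinearMap.rTensor_comp_apply], ← coassoc_symm_apply, ← hz]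
    exact h2 z

end Coalg

section Hopf

variable [CommRing A] [HopfAlgebra R A] [Module.Flat R A]

/-- Over a ring with projective kernels, finite subsets lie in coefficient algebras of matrix corepresentations. -/
theorem exists_matrix [IsNoetherianRing R]
    (hker : ∀ (K : Type u) [AddCommGroup K] [Module R K] (a b : ℕ) (g : K →ₗ[R] (Fin a → R))
      (f : (Fin a → R) →ₗ[R] (Fin b → R)), Function.Injective g → Function.Exact g f → Module.Projective R K)
    (F : Finset A) :
    ∃ (d : ℕ) (a : Matrix (Fin d) (Fin d) A),
      (∀ i j, CoalgebraStruct.comul (R := R) (a i j) = ∑ l, a i l ⊗ₜ[R] a l j) ∧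
      (∀ i j, CoalgebraStruct.counit (R := R) (a i j) = if i = j then 1 else 0) ∧
      ∃ u : A, u * a.det = 1 ∧
        (↑F : Set A) ⊆ Algebra.adjoin R (Set.range (fun p : Fin d × Fin d => a p.1 p.2) ∪ {u}) := by
  classical
  obtain ⟨M, hMfg, hFM, hM⟩ := exists_subcomodule (R := R) F
  haveI : Module.Finite R M := Module.Finite.iff_fg.mpr hMfg
  have hinj : Function.Injective (M.subtype.rTensor A) :=
    Module.Flat.rTensor_preserves_injective_linearMap _ M.injective_subtype
  let ρ : M →ₗ[R] M ⊗[R] A := (LinearEquiv.ofInjective _ hinj).symm.toLinearMap ∘ₗ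
    ((comul (R := R) (A := A)).comp M.subtype).codRestrict _ fun m => hM m m.2
  have hρ : ∀ m : M, M.subtype.rTensor A (ρ m) = comul (R := R) (m : A) := fun m =>
    congrArg Subtype.val ((LinearEquiv.ofInjective _ hinj).apply_symm_apply ⟨_, hM m m.2⟩)
  have hcoassoc : ∀ m : M, TensorProduct.assoc R M A A (ρ.rTensor A (ρ m)) =
      (comul (R := R) (A := A)).lTensor M (ρ m) := fun m => by
    apply Module.Flat.rTensor_preserves_injective_linearMap (M := A ⊗[R] A) _ M.injective_subtype
    have h1 : ∀ z, M.subtype.rTensor (A ⊗[R] A) (TensorProduct.assoc R M A A (ρ.rTensor A z)) =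
        TensorProduct.assoc R A A A ((comul (R := R) (A := A)).rTensor A (M.subtype.rTensor A z)) := fun z => by
      induction z using TensorProduct.induction_on with
      | zero => simp
      | add p q hp hq => simp only [map_add, hp, hq]
      | tmul x y =>
        simp only [LinearMap.rTensor_tmul, Submodule.coe_subtype]
        rw [← hρ x]
        induction ρ x using TensorProduct.induction_on with
        | zero => simp
        | add p q hp hq => simp only [add_tmul, map_add, hp, hq]
        | tmul v b => simp
    have h2 : ∀ z, M.subtype.rTensor (A ⊗[R] A) ((comul (R := R) (A := A)).lTensor M z) =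
        (comul (R := R) (A := A)).lTensor A (M.subtype.rTensor A z) := fun z => by
      induction z using TensorProduct.induction_on with
      | zero => simp
      | add p q hp hq => simp only [map_add, hp, hq]
      | tmul x y => simp
    rw [h1, h2, hρ, Coalgebra.coassoc_apply]
  -- the coefficient pairing
  let c : (M →ₗ[R] R) → (M →ₗ[R] A) := fun p => (TensorProduct.lid R A).toLinearMap ∘ₗ p.rTensor A ∘ₗ ρ
  have hcsum : ∀ {ι : Type} (s : Finset ι) (r : ι → R) (p : ι → (M →ₗ[R] R)) (m : M),
      c (∑ i ∈ s, r i • p i) m = ∑ i ∈ s, r i • c (p i) m := fun s r p m => by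
    simp only [c, LinearMap.comp_apply, LinearEquiv.coe_coe]
    induction ρ m using TensorProduct.induction_on with
    | zero => simp
    | add x y hx hy => simp only [map_add, hx, hy, smul_add, Finset.sum_add_distrib]
    | tmul x y => simp [TensorProduct.sum_tmul, Finset.sum_smul, mul_smul, TensorProduct.smul_tmul']
  have hccomul : ∀ p m, comul (R := R) (c p m) = (c p).rTensor A (ρ m) := fun p m => by
    have h1 : ∀ z : M ⊗[R] A, comul (R := R) (TensorProduct.lid R A (p.rTensor A z)) =
        TensorProduct.lid R (A ⊗[R] A) (p.rTensor (A ⊗[R] A) ((comul (R := R) (A := A)).lTensor M z)) := fun z => by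
      induction z using TensorProduct.induction_on with
      | zero => simp
      | add x y hx hy => simp only [map_add, hx, hy]
      | tmul x y => simp
    have h2 : ∀ z : M ⊗[R] A, TensorProduct.lid R (A ⊗[R] A) (p.rTensor (A ⊗[R] A)
        (TensorProduct.assoc R M A A (ρ.rTensor A z))) = (c p).rTensor A z := fun z => by
      induction z using TensorProduct.induction_on with
      | zero => simp
      | add x y hx hy => simp only [map_add, hx, hy]
      | tmul x y =>
        simp only [c, LinearMap.rTensor_tmul, LinearMap.comp_apply, LinearEquiv.coe_coe]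
        induction ρ x using TensorProduct.induction_on with
        | zero => simp
        | add v w hv hw => simp only [add_tmul, map_add, hv, hw]
        | tmul v b => simp [TensorProduct.smul_tmul']
    show comul (R := R) (TensorProduct.lid R A (p.rTensor A (ρ m))) = _
    rw [h1, ← hcoassoc, h2]
  have hccounit : ∀ p m, counit (R := R) (c p m) = p m := fun p m => by
    have h1 : ∀ z : M ⊗[R] A, counit (R := R) (TensorProduct.lid R A (p.rTensor A z)) =
        p (TensorProduct.rid R M ((counit (R := R) (A := A)).lTensor M z)) := fun z => by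
      induction z using TensorProduct.induction_on with
      | zero => simp
      | add x y hx hy => simp only [map_add, hx, hy]
      | tmul x y => simp [mul_comm]
    have h2 : ∀ z : M ⊗[R] A, (TensorProduct.rid R M ((counit (R := R) (A := A)).lTensor M z) : A) =
        TensorProduct.rid R A ((counit (R := R) (A := A)).lTensor A (M.subtype.rTensor A z)) := fun z => by
      induction z using TensorProduct.induction_on with
      | zero => simp
      | add x y hx hy => simp only [map_add, Submodule.coe_add, hx, hy]
      | tmul x y => simp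
    show counit (R := R) (TensorProduct.lid R A (p.rTensor A (ρ m))) = p m
    rw [h1]
    congr 1
    apply Subtype.ext
    rw [h2, hρ, lTensor_counit_comul, TensorProduct.rid_tmul, one_smul]
  have hfst : ∀ m : M, c ((counit (R := R) (A := A)).comp M.subtype) m = (m : A) := fun m => by
    have h1 : ∀ z : M ⊗[R] A, TensorProduct.lid R A (((counit (R := R) (A := A)).comp M.subtype).rTensor A z) =
        TensorProduct.lid R A ((counit (R := R) (A := A)).rTensor A (M.subtype.rTensor A z)) := fun z => by
      rw [LinearMap.rTensor_comp, LinearMap.comp_apply]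
    show TensorProduct.lid R A (((counit (R := R) (A := A)).comp M.subtype).rTensor A (ρ m)) = _
    rw [h1, hρ, rTensor_counit_comul, TensorProduct.lid_tmul, one_smul]
  -- the dual module
  obtain ⟨r, π, hπ⟩ := Module.Finite.exists_fin' R M
  haveI : Module.Finite R (LinearMap.ker π) := inferInstance
  obtain ⟨t, τ, hτ⟩ := Module.Finite.exists_fin' R (LinearMap.ker π)
  let gen : Fin r → M := fun i => π (Pi.single i 1)
  let ev : (M →ₗ[R] R) →ₗ[R] (Fin r → R) :=
    { toFun := fun p i => p (gen i), map_add' := fun _ _ => rfl, map_smul' := fun _ _ => rfl }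
  let rel : (Fin r → R) →ₗ[R] (Fin t → R) :=
    { toFun := fun v k => ∑ i, ((τ (Pi.single k 1) : Fin r → R) i) * v i
      map_add' := fun v w => by ext k; simp [mul_add, Finset.sum_add_distrib]
      map_smul' := fun s v => by ext k; simp [Finset.mul_sum, mul_left_comm] }
  have hπgen : ∀ v : Fin r → R, π v = ∑ i, v i • gen i := fun v => by
    conv_lhs => rw [pi_eq_sum_univ' v, map_sum]
    simp only [map_smul, gen]
  have hev : Function.Injective ev := fun p q h => by
    apply LinearMap.ext
    intro m
    obtain ⟨v, rfl⟩ := hπ m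
    rw [hπgen, map_sum, map_sum]
    exact Finset.sum_congr rfl fun i _ => by rw [map_smul, map_smul]; exact congrArg (v i • ·) (congrFun h i)
  have hex : Function.Exact ev rel := by
    intro v
    constructor
    · intro hv
      have hle : LinearMap.ker π ≤ LinearMap.ker (∑ i, v i • (LinearMap.proj i : (Fin r → R) →ₗ[R] R)) := by
        intro x hx
        obtain ⟨y, hy⟩ := hτ ⟨x, hx⟩
        have hy' : x = ∑ k, y k • (τ (Pi.single k 1) : Fin r → R) := by
          have h : ((τ y : LinearMap.ker π) : Fin r → R) = x := congrArg Subtype.val hy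
          rw [pi_eq_sum_univ' y, map_sum, Submodule.coe_sum] at h
          rw [← h]
          simp [map_smul]
        rw [LinearMap.mem_ker, hy', map_sum]
        refine Finset.sum_eq_zero fun k _ => ?_
        rw [map_smul]
        have := congrFun hv k
        simp only [rel, LinearMap.coe_mk, AddHom.coe_mk, Pi.zero_apply] at this
        simp [mul_comm (v _), this]
      let p : M →ₗ[R] R := (LinearMap.ker π).liftQ _ hle ∘ₗ (π.quotKerEquivOfSurjective hπ).symm.toLinearMap
      refine ⟨p, funext fun i => ?_⟩
      show p (gen i) = v i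
      simp only [p, gen, LinearMap.comp_apply, LinearEquiv.coe_coe]
      rw [show (π.quotKerEquivOfSurjective hπ).symm (π (Pi.single i 1)) = Submodule.Quotient.mk (Pi.single i 1) from
        (LinearEquiv.symm_apply_eq _).mpr rfl, Submodule.liftQ_apply]
      simp [Pi.single_apply]
    · rintro ⟨p, rfl⟩
      funext k
      show ∑ i, (τ (Pi.single k 1) : Fin r → R) i * p (gen i) = 0
      simp only [← smul_eq_mul, ← map_smul, ← map_sum, ← hπgen]
      rw [LinearMap.mem_ker.mp (τ (Pi.single k 1)).2, map_zero]
  haveI : Module.Projective R (M →ₗ[R] R) := hker _ r t ev rel hev hex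
  haveI : Module.Finite R (M →ₗ[R] R) := Module.Finite.of_injective ev hev
  obtain ⟨d, s, hs⟩ := Module.Finite.exists_fin' R (M →ₗ[R] R)
  obtain ⟨φ, hφ⟩ := Module.projective_lifting_property s LinearMap.id hs
  let f : Fin d → (M →ₗ[R] R) := fun i => s (Pi.single i 1)
  have hsf : ∀ v : Fin d → R, s v = ∑ i, v i • f i := fun v => by
    conv_lhs => rw [pi_eq_sum_univ' v, map_sum]
    simp only [map_smul, f]
  have hp : ∀ p, p = ∑ i, φ p i • f i := fun p => (LinearMap.congr_fun hφ p).symm.trans (hsf _)
  let e : Fin d → Fin d → R := fun i j => φ (f i) j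
  -- uniqueness of normalised coefficients
  have huniq : ∀ (N : Type u) [AddCommGroup N] [Module R N] [Module.Flat R N] (X Y : Fin d → N),
      (∀ m, ∑ k, f k m • X k = ∑ k, f k m • Y k) → ∀ l, ∑ k, e k l • X k = ∑ k, e k l • Y k := by
    intro N _ _ _ X Y h l
    have hi : Function.Injective ((TensorProduct.piScalarRight R R N (Fin r)).toLinearMap ∘ₗ
        (TensorProduct.comm R (Fin r → R) N).toLinearMap ∘ₗ ev.rTensor N) :=
      (TensorProduct.piScalarRight R R N (Fin r)).injective.comp
        ((TensorProduct.comm R (Fin r → R) N).injective.comp (Module.Flat.rTensor_preserves_injective_linearMap ev hev))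
    have h' : ∑ k, f k ⊗ₜ[R] X k = ∑ k, f k ⊗ₜ[R] Y k := by
      apply hi
      funext i
      simpa [ev, Finset.sum_apply] using h (gen i)
    have := congrArg (fun z => TensorProduct.lid R N (((LinearMap.proj l).comp φ).rTensor N z)) h'
    simpa [e] using this
  -- existence
  have hex' : ∀ p, ∃ b : Fin d → A, (∀ l, ∑ k, e k l • b k = b l) ∧ ∀ m, c p m = ∑ k, f k m • b k := by
    intro p
    let z : (Fin r → R) ⊗[R] A := ∑ i, Pi.single i 1 ⊗ₜ c p (gen i)
    obtain ⟨ξ, hξ⟩ := (Module.Flat.rTensor_exact A hex z).mp (by
      have : rel.rTensor A z = ∑ k, (Pi.single k (1 : R) : Fin t → R) ⊗ₜ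
          c p (∑ i, (τ (Pi.single k 1) : Fin r → R) i • gen i) := by
        simp only [z, map_sum, LinearMap.rTensor_tmul, map_smul, TensorProduct.tmul_sum, TensorProduct.tmul_smul,
          TensorProduct.smul_tmul']
        rw [Finset.sum_comm]
        refine Finset.sum_congr rfl fun i _ => ?_
        rw [← TensorProduct.sum_tmul]
        congr 1
        funext k
        simp [rel, Pi.single_apply]
      rw [this]
      refine Finset.sum_eq_zero fun k _ => ?_
      rw [← hπgen, LinearMap.mem_ker.mp (τ (Pi.single k 1)).2, map_zero, TensorProduct.tmul_zero])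
    let b : Fin d → A := fun j => TensorProduct.lid R A (((LinearMap.proj j).comp φ).rTensor A ξ)
    have hb : ∀ w : (M →ₗ[R] R) ⊗[R] A, ∑ k, f k ⊗ₜ[R] TensorProduct.lid R A (((LinearMap.proj k).comp φ).rTensor A w) = w := by
      intro w
      induction w using TensorProduct.induction_on with
      | zero => simp
      | add x y hx hy => simp only [map_add, TensorProduct.tmul_add, Finset.sum_add_distrib, hx, hy]
      | tmul q a =>
        simp only [LinearMap.rTensor_tmul, TensorProduct.lid_tmul, LinearMap.comp_apply, LinearMap.proj_apply,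
          ← TensorProduct.smul_tmul, ← TensorProduct.sum_tmul]
        rw [← hp q]
    refine ⟨b, fun l => ?_, fun m => ?_⟩
    · have := congrArg (fun w => TensorProduct.lid R A (((LinearMap.proj l).comp φ).rTensor A w)) (hb ξ)
      simpa [b, e] using this
    · suffices hlin : c p = ∑ k, (f k).smulRight (b k) by
        rw [hlin]; simp
      apply LinearMap.ext
      intro m
      obtain ⟨v, rfl⟩ := hπ m
      rw [hπgen, map_sum, map_sum]
      refine Finset.sum_congr rfl fun i _ => ?_
      rw [map_smul, map_smul]
      congr 1
      have h1 := congrArg (fun w => TensorProduct.lid R A ((LinearMap.proj i).rTensor A w)) hξ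
      rw [← hb ξ] at h1
      simp only [z, map_sum, LinearMap.rTensor_tmul, LinearMap.proj_apply, TensorProduct.lid_tmul, Pi.single_apply,
        ite_smul, one_smul, zero_smul, Finset.sum_ite_eq, Finset.mem_univ, if_true] at h1
      rw [← h1]
      simp [b, ev]
  choose b hbe hcb using fun i => hex' (f i)
  have heb : ∀ i l, ∑ j, e i j • b j l = b i l := fun i l => by
    have h := huniq A (fun k => ∑ j, e i j • b j k) (b i) (fun m => ?_) l
    · rw [hbe i l] at h
      rw [← h]
      simp only [Finset.smul_sum]
      rw [Finset.sum_comm]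
      refine Finset.sum_congr rfl fun j _ => ?_
      rw [← hbe j l, Finset.smul_sum]
      exact Finset.sum_congr rfl fun k _ => smul_comm _ _ _
    · rw [← hcb]
      conv_rhs => rw [hp (f i), hcsum]
      simp only [Finset.smul_sum]
      rw [Finset.sum_comm]
      refine Finset.sum_congr rfl fun j _ => ?_
      rw [hcb, Finset.smul_sum]
      exact Finset.sum_congr rfl fun k _ => smul_comm _ _ _
  have hcomul : ∀ i l, comul (R := R) (b i l) = ∑ j, b i j ⊗ₜ[R] b j l := fun i l => by
    have h := huniq (A ⊗[R] A) (fun k => comul (R := R) (b i k)) (fun k => ∑ j, b i j ⊗ₜ[R] b j k) (fun m => ?_) l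
    · calc comul (R := R) (b i l) = comul (R := R) (∑ k, e k l • b i k) := by rw [hbe]
        _ = ∑ k, e k l • comul (R := R) (b i k) := by simp
        _ = ∑ k, e k l • ∑ j, b i j ⊗ₜ[R] b j k := h
        _ = ∑ j, b i j ⊗ₜ[R] b j l := by
          simp only [Finset.smul_sum, ← TensorProduct.tmul_smul]
          rw [Finset.sum_comm]
          refine Finset.sum_congr rfl fun j _ => ?_
          rw [← TensorProduct.tmul_sum, hbe]
    · have h1 : ∑ k, f k m • comul (R := R) (b i k) = (c (f i)).rTensor A (ρ m) := by
        rw [← hccomul, hcb, map_sum]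
        simp
      have h2 : ∀ w : M ⊗[R] A, (c (f i)).rTensor A w =
          ∑ j, b i j ⊗ₜ[R] TensorProduct.lid R A ((f j).rTensor A w) := fun w => by
        induction w using TensorProduct.induction_on with
        | zero => simp
        | add x y hx hy => simp only [map_add, hx, hy, TensorProduct.tmul_add, Finset.sum_add_distrib]
        | tmul x y =>
          simp only [LinearMap.rTensor_tmul, hcb, TensorProduct.sum_tmul, TensorProduct.lid_tmul,
            TensorProduct.smul_tmul]
      rw [h1, h2]
      show ∑ j, b i j ⊗ₜ[R] c (f j) m = _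
      simp only [hcb, TensorProduct.tmul_sum, TensorProduct.tmul_smul, Finset.smul_sum]
      exact Finset.sum_comm
  have hcounit : ∀ i l, counit (R := R) (b i l) = e i l := fun i l => by
    have h : ∑ k, counit (R := R) (b i k) • f k = f i := by
      apply LinearMap.ext
      intro m
      rw [← hccounit (f i) m, hcb]
      simp [mul_comm]
    calc counit (R := R) (b i l) = counit (R := R) (∑ k, e k l • b i k) := by rw [hbe]
      _ = φ (∑ k, counit (R := R) (b i k) • f k) l := by simp [e, mul_comm]
      _ = e i l := by rw [h]
  have hee : ∀ i l, ∑ j, e i j * e j l = e i l := fun i l => by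
    show _ = φ (f i) l
    conv_rhs => rw [hp (f i)]
    simp [e]
  -- the matrix
  let δ : Fin d → Fin d → R := fun i j => (if i = j then 1 else 0) - e i j
  let a : Matrix (Fin d) (Fin d) A := Matrix.of fun i j => b i j + δ i j • (1 : A)
  have hδ : ∀ i l, ∑ j, δ i j * δ j l = δ i l := fun i l => by
    simp [δ, sub_mul, mul_sub, Finset.sum_sub_distrib, hee]
  have hδb : ∀ i l, ∑ j, δ i j • b j l = 0 := fun i l => by
    simp [δ, sub_smul, Finset.sum_sub_distrib, heb]
  have hbδ : ∀ i l, ∑ j, δ j l • b i j = 0 := fun i l => by
    simp [δ, sub_smul, Finset.sum_sub_distrib, hbe]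
  have hac : ∀ i j, comul (R := R) (a i j) = ∑ l, a i l ⊗ₜ[R] a l j := fun i j => by
    simp only [a, Matrix.of_apply, map_add, map_smul, Bialgebra.comul_one, hcomul, TensorProduct.add_tmul,
      TensorProduct.tmul_add, Finset.sum_add_distrib, TensorProduct.tmul_smul, ← TensorProduct.smul_tmul',
      smul_add, smul_smul]
    have h1 : ∑ x, δ i x • (1 : A) ⊗ₜ[R] b x j = 0 := by
      simp only [← TensorProduct.tmul_smul, ← TensorProduct.tmul_sum, hδb, TensorProduct.tmul_zero]
    have h2 : ∑ x, δ x j • b i x ⊗ₜ[R] (1 : A) = 0 := by
      simp only [TensorProduct.smul_tmul', ← TensorProduct.sum_tmul, hbδ, TensorProduct.zero_tmul]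
    rw [h1, h2, ← Finset.sum_smul, show ∑ x, δ x j * δ i x = δ i j by simp only [mul_comm (δ _ j), hδ]]
    simp [Algebra.TensorProduct.one_def]
  have hae : ∀ i j, counit (R := R) (a i j) = if i = j then 1 else 0 := fun i j => by
    simp [a, hcounit, δ]
  let sA : Matrix (Fin d) (Fin d) A := a.map (HopfAlgebra.antipode R)
  have hinv : sA * a = 1 := by
    refine Matrix.ext fun i j => ?_
    have h := HopfAlgebra.mul_antipode_rTensor_comul_apply (R := R) (a i j)
    rw [hac, hae] at h
    rw [Matrix.mul_apply]
    refine Eq.trans ?_ (h.trans ?_)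
    · simp [sA]
    · simp [Matrix.one_apply, apply_ite (algebraMap R A)]
  refine ⟨d, a, hac, hae, sA.det, by rw [← Matrix.det_mul, hinv, Matrix.det_one], fun x hx => ?_⟩
  have key : ∀ p m, c p m ∈ Algebra.adjoin R (Set.range (fun q : Fin d × Fin d => a q.1 q.2) ∪ {sA.det}) := by
    intro p m
    rw [hp p, hcsum]
    refine Subalgebra.sum_mem _ fun i _ => Subalgebra.smul_mem _ ?_ _
    rw [hcb]
    refine Subalgebra.sum_mem _ fun k _ => Subalgebra.smul_mem _ ?_ _
    rw [show b i k = a i k - δ i k • (1 : A) by simp [a]]
    exact Subalgebra.sub_mem _ (Algebra.subset_adjoin (Or.inl ⟨(i, k), rfl⟩)) (Subalgebra.smul_mem _ (Subalgebra.one_mem _) _)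
  have := key ((counit (R := R) (A := A)).comp M.subtype) ⟨x, hFM hx⟩
  rwa [hfst] at this

end Hopf

end Groth.Agent.CoefLib
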