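import Groth.Prelude.Def_HopfRep
import Groth.Agent.CoefLib.Matrix

/-!
# Matrix corepresentations attached to finite projective comodules

A finite projective comodule over a Hopf algebra becomes free after adding a trivial comodule; the resulting
matrix has unit determinant and its entries span all coefficients of the comodule.
-/

universe u

open TensorProduct Coalgebra

namespace Groth.Agent.CoefLib

variable {R : Type u} [CommRing R] {A : Type u} [CommRing A] [HopfAlgebra R A]

/-- A finite projective comodule gives a matrix corepresentation generating all its coefficients. -/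
theorem exists_matrix_of_comod (E : Type u) [AddCommGroup E] [Module R E] [HopfRep.Comod R A E]
    [Module.Finite R E] [Module.Projective R E] :
    ∃ (d : ℕ) (a : Matrix (Fin d) (Fin d) A),
      (∀ i j, CoalgebraStruct.comul (R := R) (a i j) = ∑ l, a i l ⊗ₜ[R] a l j) ∧
      (∀ i j, CoalgebraStruct.counit (R := R) (a i j) = if i = j then 1 else 0) ∧
      ∃ w : A, w * a.det = 1 ∧ ∀ (p : Module.Dual R E) (v : E),
        TensorProduct.lid R A (p.rTensor A (HopfRep.Comod.coact (k := R) (A := A) v)) ∈
          Algebra.adjoin R (Set.range (fun q : Fin d × Fin d => a q.1 q.2) ∪ {w}) := by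
  classical
  obtain ⟨n, P, Q, -, -, hPQ⟩ := Module.Finite.exists_comp_eq_id_of_projective R E
  let d : Fin n → E := fun i => P (Pi.single i 1)
  let φ : Fin n → Module.Dual R E := fun i => LinearMap.proj i ∘ₗ Q
  have hd : ∀ x, ∑ i, φ i x • d i = x := fun x => by
    simp only [φ, d, ← map_smul, ← map_sum]
    conv_rhs => rw [← LinearMap.id_apply (R := R) x, ← hPQ, LinearMap.comp_apply, pi_eq_sum_univ (Q x)]
    exact congrArg P (Finset.sum_congr rfl fun i _ => by
      congr 1
      funext j
      simp [Pi.single_apply, eq_comm])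
  let ρ : E →ₗ[R] E ⊗[R] A := HopfRep.Comod.coact (k := R) (A := A)
  let cf : Module.Dual R E → E → A := fun p v => TensorProduct.lid R A (p.rTensor A (ρ v))
  let e : Fin n → Fin n → R := fun i j => φ i (d j)
  let b : Fin n → Fin n → A := fun i j => cf (φ i) (d j)
  have hcfv : ∀ p v, cf p v = ∑ j, φ j v • cf p (d j) := fun p v => by
    conv_lhs => rw [← hd v]
    simp [cf, map_sum]
  have hcfp : ∀ (p : Module.Dual R E) v, cf p v = ∑ i, p (d i) • cf (φ i) v := fun p v => by
    simp only [cf]
    induction ρ v using TensorProduct.induction_on with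
    | zero => simp
    | add x y hx hy => simp only [map_add, smul_add, Finset.sum_add_distrib, hx, hy]
    | tmul x y =>
      simp only [LinearMap.rTensor_tmul, TensorProduct.lid_tmul, smul_smul, ← Finset.sum_smul]
      conv_lhs => rw [← hd x]
      simp [mul_comm]
  have hbe : ∀ i j, ∑ l, e l j • b i l = b i j := fun i j => (hcfv (φ i) (d j)).symm
  have heb : ∀ i j, ∑ l, e i l • b l j = b i j := fun i j => (hcfp (φ i) (d j)).symm
  have hee : ∀ i l, ∑ j, e i j * e j l = e i l := fun i l => by
    show _ = φ i (d l)
    conv_rhs => rw [← hd (d l)]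
    simp [e, mul_comm]
  have hcounit : ∀ i l, counit (R := R) (b i l) = e i l := fun i l => by
    have h1 : ∀ z : E ⊗[R] A, counit (R := R) (TensorProduct.lid R A ((φ i).rTensor A z)) =
        φ i (TensorProduct.rid R E ((counit (R := R) (A := A)).lTensor E z)) := fun z => by
      induction z using TensorProduct.induction_on with
      | zero => simp
      | add x y hx hy => simp only [map_add, hx, hy]
      | tmul x y => simp [mul_comm]
    show counit (R := R) (TensorProduct.lid R A ((φ i).rTensor A (ρ (d l)))) = e i l
    rw [h1, ← LinearMap.comp_apply (g := ρ), HopfRep.Comod.counit_comp]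
    simp [e]
  have hcomul : ∀ i l, comul (R := R) (b i l) = ∑ j, b i j ⊗ₜ[R] b j l := fun i l => by
    have h1 : ∀ z : E ⊗[R] A, comul (R := R) (TensorProduct.lid R A ((φ i).rTensor A z)) =
        TensorProduct.lid R (A ⊗[R] A) ((φ i).rTensor (A ⊗[R] A) ((comul (R := R) (A := A)).lTensor E z)) := fun z => by
      induction z using TensorProduct.induction_on with
      | zero => simp
      | add x y hx hy => simp only [map_add, hx, hy]
      | tmul x y => simp
    have h2 : ∀ z : E ⊗[R] A, TensorProduct.lid R (A ⊗[R] A) ((φ i).rTensor (A ⊗[R] A)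
        (TensorProduct.assoc R E A A (ρ.rTensor A z))) =
        ∑ j, b i j ⊗ₜ[R] TensorProduct.lid R A ((φ j).rTensor A z) := fun z => by
      induction z using TensorProduct.induction_on with
      | zero => simp
      | add x y hx hy => simp only [map_add, tmul_add, Finset.sum_add_distrib, hx, hy]
      | tmul x y =>
        simp only [LinearMap.rTensor_tmul, TensorProduct.lid_tmul]
        have h3 : ∀ w : E ⊗[R] A, TensorProduct.lid R (A ⊗[R] A) ((φ i).rTensor (A ⊗[R] A)
            (TensorProduct.assoc R E A A (w ⊗ₜ[R] y))) = TensorProduct.lid R A ((φ i).rTensor A w) ⊗ₜ[R] y :=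
          fun w => by
          induction w using TensorProduct.induction_on with
          | zero => simp
          | add u v hu hv => simp only [map_add, add_tmul, hu, hv]
          | tmul u v => simp [smul_tmul']
        rw [h3]
        show cf (φ i) x ⊗ₜ[R] y = _
        rw [hcfv, sum_tmul]
        exact Finset.sum_congr rfl fun j _ => by rw [smul_tmul]
    show comul (R := R) (TensorProduct.lid R A ((φ i).rTensor A (ρ (d l)))) = _
    rw [h1, ← LinearMap.comp_apply (g := ρ), ← HopfRep.Comod.coassoc]
    exact h2 (ρ (d l))
  let δ : Fin n → Fin n → R := fun i j => (if i = j then 1 else 0) - e i j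
  let a : Matrix (Fin n) (Fin n) A := Matrix.of fun i j => b i j + δ i j • (1 : A)
  have hδ : ∀ i l, ∑ j, δ i j * δ j l = δ i l := fun i l => by
    simp [δ, sub_mul, mul_sub, Finset.sum_sub_distrib, hee]
  have hδb : ∀ i l, ∑ j, δ i j • b j l = 0 := fun i l => by
    simp [δ, sub_smul, Finset.sum_sub_distrib, heb]
  have hbδ : ∀ i l, ∑ j, δ j l • b i j = 0 := fun i l => by
    simp [δ, sub_smul, Finset.sum_sub_distrib, hbe]
  have hac : ∀ i j, comul (R := R) (a i j) = ∑ l, a i l ⊗ₜ[R] a l j := fun i j => by
    simp only [a, Matrix.of_apply, map_add, map_smul, Bialgebra.comul_one, hcomul, TensorProduct.add_tmul,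
      TensorProduct.tmul_add, Finset.sum_add_distrib, TensorProduct.tmul_smul, ← TensorProduct.smul_tmul',
      smul_add, smul_smul]
    have h1 : ∑ x, δ i x • (1 : A) ⊗ₜ[R] b x j = 0 := by
      simp only [← TensorProduct.tmul_smul, ← TensorProduct.tmul_sum, hδb, TensorProduct.tmul_zero]
    have h2 : ∑ x, δ x j • b i x ⊗ₜ[R] (1 : A) = 0 := by
      simp only [TensorProduct.smul_tmul', ← TensorProduct.sum_tmul, hbδ, TensorProduct.zero_tmul]
    rw [h1, h2, ← Finset.sum_smul, show ∑ x, δ x j * δ i x = δ i j by simp only [mul_comm (δ _ j), hδ]]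
    simp [Algebra.TensorProduct.one_def]
  have hae : ∀ i j, counit (R := R) (a i j) = if i = j then 1 else 0 := fun i j => by
    simp [a, hcounit, δ]
  let sA : Matrix (Fin n) (Fin n) A := a.map (HopfAlgebra.antipode R)
  have hinv : sA * a = 1 := by
    refine Matrix.ext fun i j => ?_
    have h := HopfAlgebra.mul_antipode_rTensor_comul_apply (R := R) (a i j)
    rw [hac, hae] at h
    rw [Matrix.mul_apply]
    refine Eq.trans ?_ (h.trans ?_)
    · simp [sA]
    · simp [Matrix.one_apply, apply_ite (algebraMap R A)]
  refine ⟨n, a, hac, hae, sA.det, by rw [← Matrix.det_mul, hinv, Matrix.det_one], fun p v => ?_⟩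
  show cf p v ∈ _
  rw [hcfp]
  refine Subalgebra.sum_mem _ fun i _ => Subalgebra.smul_mem _ ?_ _
  rw [hcfv]
  refine Subalgebra.sum_mem _ fun k _ => Subalgebra.smul_mem _ ?_ _
  show b i k ∈ _
  rw [show b i k = a i k - δ i k • (1 : A) by simp [a]]
  exact Subalgebra.sub_mem _ (Algebra.subset_adjoin (Or.inl ⟨(i, k), rfl⟩))
    (Subalgebra.smul_mem _ (Subalgebra.one_mem _) _)

/-- A flat Hopf algebra of finite type whose finite comodules are quotients of finite projective ones is generated
by the entries and inverse determinant of a matrix corepresentation. -/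
theorem exists_matrix_adjoin_eq_top [IsNoetherianRing R] [Module.Flat R A] [Algebra.FiniteType R A]
    (hRE : ∀ (F : Type u) [AddCommGroup F] [Module R F] [HopfRep.Comod R A F] [Module.Finite R F],
      ∃ (E : Type u) (_ : AddCommGroup E) (_ : Module R E) (_ : HopfRep.Comod R A E) (π : E →ₗ[R] F),
        Module.Finite R E ∧ Module.Projective R E ∧ Function.Surjective π ∧
        HopfRep.Comod.coact (k := R) (A := A) ∘ₗ π =
          π.rTensor A ∘ₗ HopfRep.Comod.coact (k := R) (A := A) (V := E)) :
    ∃ (d : ℕ) (a : Matrix (Fin d) (Fin d) A),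
      (∀ i j, CoalgebraStruct.comul (R := R) (a i j) = ∑ l, a i l ⊗ₜ[R] a l j) ∧
      (∀ i j, CoalgebraStruct.counit (R := R) (a i j) = if i = j then 1 else 0) ∧
      ∃ w : A, w * a.det = 1 ∧
        Algebra.adjoin R (Set.range (fun q : Fin d × Fin d => a q.1 q.2) ∪ {w}) = ⊤ := by
  obtain ⟨S, hS⟩ := ‹Algebra.FiniteType R A›.out
  obtain ⟨M, hMfg, hSM, hM⟩ := exists_subcomodule (R := R) S
  haveI : Module.Finite R M := Module.Finite.iff_fg.mpr hMfg
  have hinj : Function.Injective (M.subtype.rTensor A) :=
    Module.Flat.rTensor_preserves_injective_linearMap _ M.injective_subtype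
  let ρ : M →ₗ[R] M ⊗[R] A := (LinearEquiv.ofInjective _ hinj).symm.toLinearMap ∘ₗ
    ((comul (R := R) (A := A)).comp M.subtype).codRestrict _ fun m => hM m m.2
  have hρ : ∀ m : M, M.subtype.rTensor A (ρ m) = comul (R := R) (m : A) := fun m =>
    congrArg Subtype.val ((LinearEquiv.ofInjective _ hinj).apply_symm_apply ⟨_, hM m m.2⟩)
  letI : HopfRep.Comod R A M :=
    { coact := ρ
      coassoc := by
        refine LinearMap.ext fun m => Module.Flat.rTensor_preserves_injective_linearMap (M := A ⊗[R] A) _
          M.injective_subtype ?_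
        have h1 : ∀ z, M.subtype.rTensor (A ⊗[R] A) (TensorProduct.assoc R M A A (ρ.rTensor A z)) =
            TensorProduct.assoc R A A A ((comul (R := R) (A := A)).rTensor A (M.subtype.rTensor A z)) := fun z => by
          induction z using TensorProduct.induction_on with
          | zero => simp
          | add p q hp hq => simp only [map_add, hp, hq]
          | tmul x y =>
            simp only [LinearMap.rTensor_tmul, Submodule.coe_subtype]
            rw [← hρ x]
            induction ρ x using TensorProduct.induction_on with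
            | zero => simp
            | add p q hp hq => simp only [add_tmul, map_add, hp, hq]
            | tmul v b => simp
        have h2 : ∀ z, M.subtype.rTensor (A ⊗[R] A) ((comul (R := R) (A := A)).lTensor M z) =
            (comul (R := R) (A := A)).lTensor A (M.subtype.rTensor A z) := fun z => by
          rw [← LinearMap.comp_apply, LinearMap.rTensor_comp_lTensor, ← LinearMap.lTensor_comp_rTensor,
            LinearMap.comp_apply]
        simp only [LinearMap.comp_apply, LinearEquiv.coe_coe]
        rw [h1, h2, hρ, coassoc_apply]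
      counit_comp := by
        refine LinearMap.ext fun m => (TensorProduct.rid R M).injective (Subtype.ext ?_)
        have h1 : ∀ z, ((TensorProduct.rid R M ((counit (R := R) (A := A)).lTensor M z) : M) : A) =
            TensorProduct.rid R A ((counit (R := R) (A := A)).lTensor A (M.subtype.rTensor A z)) := fun z => by
          induction z using TensorProduct.induction_on with
          | zero => simp
          | add p q hp hq => simp only [map_add, Submodule.coe_add, hp, hq]
          | tmul x y => simp
        simp only [LinearMap.comp_apply, h1, hρ, lTensor_counit_comul]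
        simp }
  obtain ⟨E, _, _, _, π, _, _, hπ, hcomm⟩ := hRE M
  obtain ⟨d, a, hac, hae, w, hw, hmem⟩ := exists_matrix_of_comod (R := R) (A := A) E
  refine ⟨d, a, hac, hae, w, hw, eq_top_iff.mpr (hS ▸ Algebra.adjoin_le fun x hx => ?_)⟩
  obtain ⟨v, hv⟩ := hπ ⟨x, hSM hx⟩
  have h1 : TensorProduct.lid R A ((counit (R := R) (A := A) ∘ₗ M.subtype ∘ₗ π).rTensor A
      (HopfRep.Comod.coact (k := R) (A := A) v)) = x := by
    have h2 := LinearMap.congr_fun hcomm v
    simp only [LinearMap.comp_apply] at h2
    rw [LinearMap.rTensor_comp_apply, LinearMap.rTensor_comp_apply, ← h2, hv]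
    show TensorProduct.lid R A ((counit (R := R) (A := A)).rTensor A (M.subtype.rTensor A (ρ ⟨x, hSM hx⟩))) = x
    rw [hρ, rTensor_counit_comul, TensorProduct.lid_tmul, one_smul]
  exact h1 ▸ hmem _ v

end Groth.Agent.CoefLib
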