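import Groth.Agent.RegLoc6.Serre
import Mathlib.RingTheory.LocalProperties.Projective
import Mathlib.Algebra.Module.LocalizedModule.Exact
import Mathlib.RingTheory.Ideal.Height

/-!
# Kernels of maps of projective modules over a regular ring of dimension at most two
-/

universe u

namespace Groth.Agent.CoefLib

open Groth.Agent.RegLoc6

/-- Over a regular local ring of dimension at most two, the kernel of a map of projective modules is projective. -/
theorem projective_ker_local {R : Type u} [CommRing R] [IsRegularLocalRing R] (hdim : ringKrullDim R ≤ 2)
    {K F G : Type u} [AddCommGroup K] [Module R K] [AddCommGroup F] [Module R F] [Module.Finite R F]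
    [Module.Projective R F] [AddCommGroup G] [Module R G] [Module.Finite R G] [Module.Projective R G]
    (g : K →ₗ[R] F) (f : F →ₗ[R] G) (hg : Function.Injective g) (hfg : Function.Exact g f) : Module.Projective R K := by
  have h2 : (IsLocalRing.maximalIdeal R).spanFinrank ≤ 2 := by
    have h1 := (IsRegularLocalRing.spanFinrank_maximalIdeal (R := R)).trans_le hdim
    exact_mod_cast h1
  have hQ : PdLE R 2 (G ⧸ LinearMap.range f) := pdLE_mono h2 (pdLE_of_isRegularLocalRing _ _)
  rw [pdLE_succ_iff (LinearMap.range f).mkQ (Submodule.mkQ_surjective _)] at hQ
  have hR : PdLE R 1 (LinearMap.range f) := pdLE_of_equiv (LinearEquiv.ofEq _ _ (LinearMap.range f).ker_mkQ) hQ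
  rw [pdLE_succ_iff f.rangeRestrict f.surjective_rangeRestrict] at hR
  exact pdLE_zero_iff.1 (pdLE_of_equiv
    ((LinearEquiv.ofEq _ _ ((LinearMap.ker_rangeRestrict f).trans hfg.linearMap_ker_eq)).trans
      (LinearEquiv.ofInjective g hg).symm) hR)

/-- Over a regular ring of dimension at most two, the kernel of a map of projective modules is projective. -/
theorem projective_ker {R : Type u} [CommRing R] [IsRegularRing R] (hdim : ringKrullDim R ≤ 2)
    {K F G : Type u} [AddCommGroup K] [Module R K] [AddCommGroup F] [Module R F] [Module.Finite R F]
    [Module.Projective R F] [AddCommGroup G] [Module R G] [Module.Finite R G] [Module.Projective R G]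
    (g : K →ₗ[R] F) (f : F →ₗ[R] G) (hg : Function.Injective g) (hfg : Function.Exact g f) : Module.Projective R K := by
  haveI : Module.Finite R K := Module.Finite.of_injective g hg
  haveI : Module.FinitePresentation R K := Module.finitePresentation_of_finite R K
  refine Module.projective_of_localization_maximal fun m hm => ?_
  haveI := hm.isPrime
  have hd : ringKrullDim (Localization.AtPrime m) ≤ 2 := by
    rw [IsLocalization.AtPrime.ringKrullDim_eq_height m (Localization.AtPrime m)]
    exact (Ideal.height_le_ringKrullDim_of_ne_top hm.ne_top).trans hdim
  haveI : ∀ (M : Type u) [AddCommGroup M] [Module R M] [Module.Projective R M],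
      Module.Projective (Localization.AtPrime m) (LocalizedModule m.primeCompl M) := fun M _ _ _ =>
    Module.projective_of_isLocalizedModule m.primeCompl (LocalizedModule.mkLinearMap m.primeCompl M)
  exact projective_ker_local hd (LocalizedModule.map m.primeCompl g) (LocalizedModule.map m.primeCompl f)
    (LocalizedModule.map_injective m.primeCompl g hg) (LocalizedModule.map_exact m.primeCompl g f hfg)

end Groth.Agent.CoefLib
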